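import Mathlib.RingTheory.Discriminant
import Mathlib.RingTheory.PowerSeries.Inverse
import Mathlib.RingTheory.PowerSeries.NoZeroDivisors
import Groth.Agent.MiscA.LenDetDomain

set_option autoImplicit false
universe u v w

namespace K804.Disc

open Module

section General

variable {R : Type u} [CommRing R] {A : Type v} [CommRing A] [Algebra R A]
  {ι : Type w} [Fintype ι] [DecidableEq ι]

/-- the matrix of the inclusion of a subalgebra. -/
noncomputable def P (bt : Basis ι R A) {S : Subalgebra R A} (bS : Basis ι R S) : Matrix ι ι R :=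
  LinearMap.toMatrix bS bt S.val.toLinearMap

theorem toMatrix_mulVec (bt : Basis ι R A) {S : Subalgebra R A} (bS : Basis ι R S) (v : ι → R) :
    (LinearMap.toMatrix bS bt S.val.toLinearMap).mulVec v =
      bt.equivFun (S.val.toLinearMap (bS.equivFun.symm v)) := by
  have h := LinearMap.toMatrix_mulVec_repr bS bt S.val.toLinearMap (bS.equivFun.symm v)
  have h2 : (⇑(bS.repr (bS.equivFun.symm v)) : ι → R) = v := bS.equivFun.apply_symm_apply v
  rw [h2] at h
  exact h

theorem leftMul_comm (bt : Basis ι R A) {S : Subalgebra R A} (bS : Basis ι R S) (x : S) :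
    Algebra.leftMulMatrix bt (x : A) * P bt bS = P bt bS * Algebra.leftMulMatrix bS x := by
  have h : (Algebra.lmul R A (x : A)) ∘ₗ S.val.toLinearMap = S.val.toLinearMap ∘ₗ Algebra.lmul R S x := by
    ext y
    simp
  have h1 := congrArg (LinearMap.toMatrix bS bt) h
  rw [LinearMap.toMatrix_comp bS bt bt, LinearMap.toMatrix_comp bS bS bt] at h1
  exact h1

theorem det_P_ne_zero [IsDomain R] (bt : Basis ι R A) {S : Subalgebra R A} (bS : Basis ι R S) :
    (P bt bS).det ≠ 0 := by
  intro h
  obtain ⟨v, hv, hv'⟩ := Matrix.exists_mulVec_eq_zero_iff.mpr h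
  apply hv
  have h1 := toMatrix_mulVec bt bS v
  rw [P, h1] at hv'
  have h2 : S.val.toLinearMap (bS.equivFun.symm v) = 0 := by
    apply bt.equivFun.injective
    rw [hv', map_zero]
  have h3 : bS.equivFun.symm v = 0 := by
    apply Subtype.ext
    simpa using h2
  exact (LinearEquiv.map_eq_zero_iff _).mp h3

theorem trace_eq [IsDomain R] (bt : Basis ι R A) {S : Subalgebra R A} (bS : Basis ι R S) (x : S) :
    Algebra.trace R A (x : A) = Algebra.trace R S x := by
  rw [Algebra.trace_eq_matrix_trace bt, Algebra.trace_eq_matrix_trace bS]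
  apply mul_left_cancel₀ (det_P_ne_zero bt bS)
  have h := leftMul_comm bt bS x
  have h1 : (P bt bS).det * (Algebra.leftMulMatrix bt (x : A)).trace =
      (Algebra.leftMulMatrix bt (x : A) * P bt bS * (P bt bS).adjugate).trace := by
    rw [Matrix.mul_assoc, Matrix.mul_adjugate, Matrix.mul_smul, Matrix.mul_one, Matrix.trace_smul]
    rfl
  rw [h1, h, Matrix.trace_mul_comm, ← Matrix.mul_assoc, Matrix.adjugate_mul, Matrix.smul_mul,
    Matrix.one_mul, Matrix.trace_smul]
  rfl

theorem discr_coe_eq [IsDomain R] (bt : Basis ι R A) {S : Subalgebra R A} (bS : Basis ι R S) :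
    Algebra.discr R (fun i => (bS i : A)) = Algebra.discr R bS := by
  rw [Algebra.discr_def, Algebra.discr_def]
  congr 1
  ext i j
  rw [Algebra.traceMatrix_apply, Algebra.traceMatrix_apply, Algebra.traceForm_apply,
    Algebra.traceForm_apply, ← trace_eq bt bS (bS i * bS j)]
  rfl

theorem discr_eq [IsDomain R] (bt : Basis ι R A) {S : Subalgebra R A} (bS : Basis ι R S) :
    Algebra.discr R bS = (P bt bS).det ^ 2 * Algebra.discr R bt := by
  rw [← discr_coe_eq bt bS, ← Algebra.discr_of_matrix_vecMul]
  congr 1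
  funext j
  rw [Matrix.vecMul, dotProduct]
  have := bt.sum_equivFun (bS j : A)
  rw [← this]
  refine Finset.sum_congr rfl fun i _ => ?_
  rw [Matrix.map_apply, P, LinearMap.toMatrix_apply, Algebra.smul_def, mul_comm]
  rfl

/-- two bases of the same algebra have associated discriminants. -/
theorem discr_basis_assoc (b b' : Basis ι R A) :
    Associated (Algebra.discr R b) (Algebra.discr R b') := by
  have h : Algebra.discr R b = (b'.toMatrix b).det ^ 2 * Algebra.discr R b' := by
    rw [← Algebra.discr_of_matrix_vecMul]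
    rw [Basis.toMatrix_map_vecMul]
  have hu : IsUnit (b'.toMatrix b).det := by
    rw [← LinearMap.toMatrix_id_eq_basis_toMatrix b b']
    exact LinearEquiv.isUnit_det (LinearEquiv.refl R A) b b'
  rw [h]
  obtain ⟨w, hw⟩ := hu
  refine ⟨w⁻¹ ^ 2, ?_⟩
  rw [← hw]
  push_cast
  have : (w : R) ^ 2 * (↑w⁻¹ : R) ^ 2 = 1 := by rw [← mul_pow]; simp
  linear_combination Algebra.discr R b' * this

/-- `det P` kills the quotient. -/
theorem det_smul_mem (bt : Basis ι R A) {S : Subalgebra R A} (bS : Basis ι R S) (y : A) :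
    (P bt bS).det • y ∈ S := by
  have h1 := toMatrix_mulVec bt bS
  have h2 := h1 ((P bt bS).adjugate.mulVec (bt.equivFun y))
  rw [Matrix.mulVec_mulVec] at h2
  change (P bt bS * (P bt bS).adjugate).mulVec _ = _ at h2
  rw [Matrix.mul_adjugate, Matrix.smul_mulVec, Matrix.one_mulVec, ← map_smul] at h2
  have h3 := bt.equivFun.injective h2
  rw [h3]
  exact Subtype.property _

/-- the quotient is the cokernel of `P`. -/
noncomputable def quotEquiv (bt : Basis ι R A) {S : Subalgebra R A} (bS : Basis ι R S) :
    (A ⧸ Subalgebra.toSubmodule S) ≃ₗ[R] ((ι → R) ⧸ LinearMap.range (P bt bS).mulVecLin) :=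
  Submodule.Quotient.equiv _ _ bt.equivFun (by
    have h1 := toMatrix_mulVec bt bS
    ext v
    simp only [Submodule.mem_map, LinearMap.mem_range, Matrix.mulVecLin_apply]
    constructor
    · rintro ⟨y, hy, rfl⟩
      refine ⟨bS.equivFun ⟨y, hy⟩, ?_⟩
      rw [P, h1]
      simp
    · rintro ⟨w, rfl⟩
      refine ⟨(bS.equivFun.symm w : S), Subtype.property _, ?_⟩
      rw [P, h1]
      rfl)

end General

section PS

variable {k : Type u} [Field k]

/-- powers of `X` generate distinct ideals. -/
theorem X_pow_associated {a b : ℕ} (h : Associated ((PowerSeries.X : PowerSeries k) ^ a)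
    ((PowerSeries.X : PowerSeries k) ^ b)) : a = b := by
  rcases h with ⟨w, hw⟩
  have h1 := congrArg PowerSeries.order hw
  rw [PowerSeries.order_mul, PowerSeries.order_X_pow, PowerSeries.order_X_pow,
    PowerSeries.order_zero_of_unit (Units.isUnit w)] at h1
  simpa using h1

theorem exists_associated_X_pow (x : PowerSeries k) (hx : x ≠ 0) :
    ∃ n : ℕ, Associated x ((PowerSeries.X : PowerSeries k) ^ n) :=
  IsDiscreteValuationRing.associated_pow_irreducible hx PowerSeries.X_irreducible

theorem length_quot_X_pow (n : ℕ) :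
    Module.length (PowerSeries k) (PowerSeries k ⧸ Ideal.span {(PowerSeries.X : PowerSeries k) ^ n}) =
      n := by
  rw [← Ideal.span_singleton_pow, ← PowerSeries.maximalIdeal_eq_span_X]
  exact IsDiscreteValuationRing.length_quotient_pow_maximalIdeal _ n

theorem exists_det_eq {St : Type v} [CommRing St] [Algebra (PowerSeries k) St] (d a b : ℕ)
    (bt : Module.Basis (Fin d) (PowerSeries k) St)
    (ha : Ideal.span {Algebra.discr (PowerSeries k) ⇑bt} = Ideal.span {(PowerSeries.X : PowerSeries k) ^ a})
    (S : Subalgebra (PowerSeries k) St) (bS : Module.Basis (Fin d) (PowerSeries k) S)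
    (hb : Ideal.span {Algebra.discr (PowerSeries k) ⇑bS} = Ideal.span {(PowerSeries.X : PowerSeries k) ^ b}) :
    ∃ c : ℕ, 2 * c + a = b ∧ Associated (P bt bS).det ((PowerSeries.X : PowerSeries k) ^ c) := by
  obtain ⟨c, hc⟩ := exists_associated_X_pow _ (det_P_ne_zero bt bS)
  refine ⟨c, ?_, hc⟩
  rw [Ideal.span_singleton_eq_span_singleton] at ha hb
  rw [discr_eq bt bS] at hb
  apply X_pow_associated (k := k)
  refine Associated.trans ?_ hb
  rw [pow_add, mul_comm 2 c, pow_mul]
  exact ((hc.pow_pow (n := 2)).mul_mul ha).symm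

end PS

end K804.Disc
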