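import Mathlib.RingTheory.Ideal.Operations
import Mathlib.Algebra.Module.Submodule.Pointwise
import Mathlib.LinearAlgebra.Span.Basic
import Mathlib.Tactic.Ring
import Mathlib.Tactic.Abel
import Mathlib.Tactic.LinearCombination

set_option autoImplicit false
universe u v

namespace K804.Span

variable {R : Type u} [CommRing R] {A : Type v} [CommRing A] [Algebra R A]

theorem mem_ideal_span_smul_top (r : R) (x : A) :
    x ∈ Ideal.span {r} • (⊤ : Submodule R A) ↔ ∃ s : A, x = r • s := by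
  rw [Submodule.ideal_span_singleton_smul, Submodule.mem_smul_pointwise_iff_exists]
  constructor
  · rintro ⟨s, -, hs⟩
    exact ⟨s, hs.symm⟩
  · rintro ⟨s, hs⟩
    exact ⟨s, Submodule.mem_top, hs.symm⟩

/-- membership in `R·e + R·f + r A`. -/
theorem mem_span_pair_sup (e f : A) (r : R) (x : A) :
    x ∈ Submodule.span R {e, f} ⊔ Ideal.span {r} • (⊤ : Submodule R A) ↔
      ∃ (a b : R) (s : A), x = a • e + b • f + r • s := by
  rw [Submodule.mem_sup]
  constructor
  · rintro ⟨y, hy, z, hz, rfl⟩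
    obtain ⟨a, b, rfl⟩ := Submodule.mem_span_pair.mp hy
    obtain ⟨s, rfl⟩ := (mem_ideal_span_smul_top r z).mp hz
    exact ⟨a, b, s, rfl⟩
  · rintro ⟨a, b, s, rfl⟩
    exact ⟨a • e + b • f, Submodule.mem_span_pair.mpr ⟨a, b, rfl⟩, r • s,
      (mem_ideal_span_smul_top r _).mpr ⟨s, rfl⟩, rfl⟩

theorem mem_span_singleton_sup (e : A) (r : R) (x : A) :
    x ∈ Submodule.span R {e} ⊔ Ideal.span {r} • (⊤ : Submodule R A) ↔
      ∃ (a : R) (s : A), x = a • e + r • s := by
  rw [Submodule.mem_sup]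
  constructor
  · rintro ⟨y, hy, z, hz, rfl⟩
    obtain ⟨a, rfl⟩ := Submodule.mem_span_singleton.mp hy
    obtain ⟨s, rfl⟩ := (mem_ideal_span_smul_top r z).mp hz
    exact ⟨a, s, rfl⟩
  · rintro ⟨a, s, rfl⟩
    exact ⟨a • e, Submodule.mem_span_singleton.mpr ⟨a, rfl⟩, r • s,
      (mem_ideal_span_smul_top r _).mpr ⟨s, rfl⟩, rfl⟩

/-- multiplicative closedness of `R·1 + R·h + r A`. -/
theorem mul_closed_iff (h : A) (r : R) :
    (∀ x ∈ Submodule.span R {(1 : A), h} ⊔ Ideal.span {r} • (⊤ : Submodule R A),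
      ∀ y ∈ Submodule.span R {(1 : A), h} ⊔ Ideal.span {r} • (⊤ : Submodule R A),
        x * y ∈ Submodule.span R {(1 : A), h} ⊔ Ideal.span {r} • (⊤ : Submodule R A)) ↔
      h * h ∈ Submodule.span R {(1 : A), h} ⊔ Ideal.span {r} • (⊤ : Submodule R A) := by
  constructor
  · intro H
    have hh : h ∈ Submodule.span R {(1 : A), h} ⊔ Ideal.span {r} • (⊤ : Submodule R A) :=
      (mem_span_pair_sup _ _ _ _).mpr ⟨0, 1, 0, by simp⟩
    exact H h hh h hh
  · intro H x hx y hy
    obtain ⟨a, b, s, rfl⟩ := (mem_span_pair_sup _ _ _ _).mp hx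
    obtain ⟨a', b', s', rfl⟩ := (mem_span_pair_sup _ _ _ _).mp hy
    obtain ⟨c, d, s'', hs''⟩ := (mem_span_pair_sup _ _ _ _).mp H
    rw [mem_span_pair_sup]
    refine ⟨a * a' + b * b' * c, a * b' + b * a' + b * b' * d,
      a • s' + a' • s + b • (h * s') + b' • (h * s) + r • (s * s') + (b * b') • s'', ?_⟩
    simp only [Algebra.smul_def, map_mul, map_add, mul_one] at hs'' ⊢
    linear_combination (algebraMap R A b * algebraMap R A b') * hs''

end K804.Span
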