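import Groth.Agent.Crimp.K804.Disc
import Groth.Agent.Crimp.K804.Span
import Mathlib.RingTheory.AdjoinRoot
import Mathlib.LinearAlgebra.Basis.Fin

set_option autoImplicit false
universe u v w

namespace K804.QuadAlg

open Module

/-- `A = R ⊕ R x` with `x² = c`. -/
structure Quad (R : Type u) [CommRing R] (A : Type v) [CommRing A] [Algebra R A] (x : A) (c : R) :
    Prop where
  sq : x * x = algebraMap R A c
  span : ∀ y : A, ∃ a b : R, y = algebraMap R A a + b • x
  ind : ∀ a b : R, algebraMap R A a + b • x = 0 → a = 0 ∧ b = 0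

section

variable {R : Type u} [CommRing R] {A : Type v} [CommRing A] [Algebra R A] {x : A} {c : R}

/-- the basis `1, x`. -/
noncomputable def Quad.basis (h : Quad R A x c) : Basis (Fin 2) R A :=
  Basis.mk (v := ![(1 : A), x]) (by
    rw [LinearIndependent.pair_iff]
    intro s t hst
    exact h.ind s t (by rw [Algebra.algebraMap_eq_smul_one]; exact hst)) (by
    intro y _
    obtain ⟨a, b, rfl⟩ := h.span y
    rw [Matrix.range_cons, Matrix.range_cons, Matrix.range_empty, Set.union_empty,
      Set.singleton_union, Submodule.mem_span_pair]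
    exact ⟨a, b, by rw [Algebra.algebraMap_eq_smul_one]⟩)

theorem Quad.basis_zero (h : Quad R A x c) : h.basis 0 = 1 := by simp [Quad.basis]

theorem Quad.basis_one (h : Quad R A x c) : h.basis 1 = x := by simp [Quad.basis]

theorem Quad.repr (h : Quad R A x c) (a b : R) :
    ⇑(h.basis.repr (algebraMap R A a + b • x)) = ![a, b] := by
  have : algebraMap R A a + b • x = a • h.basis 0 + b • h.basis 1 := by
    rw [h.basis_zero, h.basis_one, Algebra.algebraMap_eq_smul_one]
  rw [this, map_add, map_smul, map_smul, Basis.repr_self, Basis.repr_self]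
  funext i
  fin_cases i <;> simp

theorem Quad.trace (h : Quad R A x c) (a b : R) :
    Algebra.trace R A (algebraMap R A a + b • x) = 2 * a := by
  rw [Algebra.trace_eq_matrix_trace h.basis, Matrix.trace_fin_two, Algebra.leftMulMatrix_eq_repr_mul,
    Algebra.leftMulMatrix_eq_repr_mul, h.basis_zero, h.basis_one, mul_one, h.repr]
  have : (algebraMap R A a + b • x) * x = algebraMap R A (b * c) + a • x := by
    rw [add_mul, smul_mul_assoc, h.sq, ← Algebra.smul_def, Algebra.smul_def b, ← map_mul]
    ring
  rw [this, h.repr]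
  simp
  ring

theorem Quad.discr (h : Quad R A x c) : Algebra.discr R h.basis = 4 * c := by
  have t0 : Algebra.trace R A 1 = 2 := by
    have := h.trace 1 0
    simpa using this
  have t1 : Algebra.trace R A x = 0 := by
    have := h.trace 0 1
    simpa using this
  have t2 : Algebra.trace R A (x * x) = 2 * c := by
    have := h.trace c 0
    rw [h.sq]
    simpa using this
  rw [Algebra.discr_def, Matrix.det_fin_two]
  simp only [Algebra.traceMatrix_apply, Algebra.traceForm_apply, h.basis_zero, h.basis_one]
  simp only [mul_one, one_mul, t0, t1, t2]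
  ring

theorem Quad.adjoinRoot [Nontrivial R] (c : R) :
    Quad R (AdjoinRoot (Polynomial.X ^ 2 - Polynomial.C c)) (AdjoinRoot.root _) c := by
  have hm : (Polynomial.X ^ 2 - Polynomial.C c : Polynomial R).Monic :=
    Polynomial.monic_X_pow_sub_C c two_ne_zero
  have hd : (Polynomial.X ^ 2 - Polynomial.C c : Polynomial R).natDegree = 2 :=
    Polynomial.natDegree_X_pow_sub_C
  refine ⟨?_, ?_, ?_⟩
  · have h := AdjoinRoot.eval₂_root (Polynomial.X ^ 2 - Polynomial.C c : Polynomial R)
    rw [Polynomial.eval₂_sub, Polynomial.eval₂_pow, Polynomial.eval₂_X, Polynomial.eval₂_C,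
      sub_eq_zero] at h
    rw [← pow_two]
    exact h
  · set g : Polynomial R := Polynomial.X ^ 2 - Polynomial.C c with hg
    intro y
    have hne : g ≠ 1 := by
      intro h
      rw [h, Polynomial.natDegree_one] at hd
      exact absurd hd (by norm_num)
    have hy : y = AdjoinRoot.mk g (AdjoinRoot.modByMonicHom hm y) :=
      (AdjoinRoot.mk_leftInverse hm y).symm
    have hlt : (AdjoinRoot.modByMonicHom hm y).natDegree ≤ 1 := by
      obtain ⟨q, rfl⟩ := AdjoinRoot.mk_surjective y
      rw [AdjoinRoot.modByMonicHom_mk]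
      have := Polynomial.natDegree_modByMonic_lt q hm hne
      omega
    obtain ⟨b, a, hab⟩ := Polynomial.exists_eq_X_add_C_of_natDegree_le_one hlt
    refine ⟨a, b, ?_⟩
    rw [hy, hab, map_add, map_mul, AdjoinRoot.mk_C, AdjoinRoot.mk_C, AdjoinRoot.mk_X, add_comm,
      Algebra.smul_def]
    rfl
  · intro a b hab
    set g : Polynomial R := Polynomial.X ^ 2 - Polynomial.C c with hg
    have h1 : algebraMap R (AdjoinRoot g) a + b • AdjoinRoot.root g =
        AdjoinRoot.mk g (Polynomial.C b * Polynomial.X + Polynomial.C a) := by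
      rw [map_add, map_mul, AdjoinRoot.mk_C, AdjoinRoot.mk_C, AdjoinRoot.mk_X, add_comm,
        Algebra.smul_def]
      rfl
    rw [h1] at hab
    have h2 := congrArg (AdjoinRoot.modByMonicHom hm) hab
    rw [AdjoinRoot.modByMonicHom_mk, map_zero] at h2
    have h3 : (Polynomial.C b * Polynomial.X + Polynomial.C a) %ₘ g =
        Polynomial.C b * Polynomial.X + Polynomial.C a := by
      rw [Polynomial.modByMonic_eq_self_iff hm]
      refine lt_of_le_of_lt Polynomial.degree_linear_le ?_
      rw [Polynomial.degree_eq_natDegree hm.ne_zero, hd]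
      norm_num
    rw [h3] at h2
    constructor
    · have := congrArg (fun q => Polynomial.coeff q 0) h2
      simpa using this
    · have := congrArg (fun q => Polynomial.coeff q 1) h2
      simpa [Polynomial.coeff_C] using this

/-- two quadratic algebras with the same constant are isomorphic. -/
theorem Quad.nonempty_algEquiv [Nontrivial R] (h : Quad R A x c) {A' : Type w} [CommRing A'] [Algebra R A']
    {x' : A'} (h' : Quad R A' x' c) : Nonempty (A ≃ₐ[R] A') := by
  let e : A ≃ₗ[R] A' := h.basis.equiv h'.basis (Equiv.refl _)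
  have he : ∀ a b : R, e (algebraMap R A a + b • x) = algebraMap R A' a + b • x' := by
    intro a b
    rw [Algebra.algebraMap_eq_smul_one, Algebra.algebraMap_eq_smul_one, ← h.basis_zero,
      ← h'.basis_zero, map_add, map_smul, map_smul]
    congr 2
    · simp [e]
    · rw [← h.basis_one, ← h'.basis_one]; simp [e]
  refine ⟨AlgEquiv.ofLinearEquiv e ?_ ?_⟩
  · have := he 1 0
    simpa using this
  · intro y z
    obtain ⟨a, b, rfl⟩ := h.span y
    obtain ⟨a', b', rfl⟩ := h.span z
    have m1 : (algebraMap R A a + b • x) * (algebraMap R A a' + b' • x) =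
        algebraMap R A (a * a' + b * b' * c) + (a * b' + b * a') • x := by
      have := h.sq
      simp only [Algebra.smul_def, map_add, map_mul] at *
      linear_combination (algebraMap R A b * algebraMap R A b') * this
    have m2 : (algebraMap R A' a + b • x') * (algebraMap R A' a' + b' • x') =
        algebraMap R A' (a * a' + b * b' * c) + (a * b' + b * a') • x' := by
      have := h'.sq
      simp only [Algebra.smul_def, map_add, map_mul] at *
      linear_combination (algebraMap R A' b * algebraMap R A' b') * this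
    rw [m1, he, he, he, m2]

/-- The subalgebra `R + r A`. -/
theorem Quad.sub [IsDomain R] (h : Quad R A x c) (S : Subalgebra R A) (r : R) (hr : r ≠ 0)
    (hS : Subalgebra.toSubmodule S = Submodule.span R {(1 : A)} ⊔
      Ideal.span {r} • (⊤ : Submodule R A)) :
    ∃ x' : S, Quad R S x' (r ^ 2 * c) := by
  have hmem : ∀ y, y ∈ S ↔ ∃ (a : R) (s : A), y = a • (1 : A) + r • s := by
    intro y
    rw [← Subalgebra.mem_toSubmodule, hS, K804.Span.mem_span_singleton_sup]
  have hx : r • x ∈ S := (hmem _).mpr ⟨0, x, by simp⟩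
  refine ⟨⟨r • x, hx⟩, ?_, ?_, ?_⟩
  · apply Subtype.ext
    change r • x * r • x = algebraMap R A _
    rw [smul_mul_smul_comm, h.sq, map_mul, Algebra.smul_def, pow_two]
  · rintro ⟨y, hy⟩
    obtain ⟨a, s, rfl⟩ := (hmem y).mp hy
    obtain ⟨a', b', rfl⟩ := h.span s
    refine ⟨a + r * a', b', ?_⟩
    apply Subtype.ext
    change _ = algebraMap R A _ + b' • (r • x)
    simp only [Algebra.smul_def, map_add, map_mul]
    ring
  · intro a b hab
    have h1 := congrArg (Subtype.val) hab
    change algebraMap R A a + b • (r • x) = 0 at h1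
    rw [smul_smul] at h1
    obtain ⟨h2, h3⟩ := h.ind _ _ h1
    exact ⟨h2, (mul_eq_zero.mp h3).resolve_right hr⟩

end

section PS

variable {k : Type u} [Field k] {A : Type v} [CommRing A] [Algebra (PowerSeries k) A] {x : A}
  {c : PowerSeries k}

/-- the subalgebras of rank `2` of `R ⊕ R x` are the `R + t^n A`. -/
theorem Quad.exists_eq (h : Quad (PowerSeries k) A x c) (S : Subalgebra (PowerSeries k) A)
    (bS : Basis (Fin 2) (PowerSeries k) S) :
    ∃ n : ℕ, Subalgebra.toSubmodule S = Submodule.span (PowerSeries k) {(1 : A)} ⊔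
        Ideal.span {(PowerSeries.X : PowerSeries k) ^ n} • (⊤ : Submodule (PowerSeries k) A) := by
  let J : Ideal (PowerSeries k) :=
    (Subalgebra.toSubmodule S).comap (LinearMap.toSpanSingleton (PowerSeries k) A x)
  have hJ : ∀ r, r ∈ J ↔ r • x ∈ S := fun r => Iff.rfl
  have hJ0 : J ≠ ⊥ := by
    intro h0
    have h1 := K804.Disc.det_smul_mem h.basis bS x
    rw [← hJ, h0, Ideal.mem_bot] at h1
    exact K804.Disc.det_P_ne_zero h.basis bS h1
  obtain ⟨n, hn⟩ := IsDiscreteValuationRing.ideal_eq_span_pow_irreducible hJ0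
    PowerSeries.X_irreducible
  refine ⟨n, ?_⟩
  ext y
  rw [K804.Span.mem_span_singleton_sup, Subalgebra.mem_toSubmodule]
  constructor
  · intro hy
    obtain ⟨a, b, rfl⟩ := h.span y
    have hb : b ∈ J := by
      rw [hJ]
      have := S.sub_mem hy (S.algebraMap_mem a)
      simpa using this
    rw [hn, Ideal.mem_span_singleton] at hb
    obtain ⟨b', rfl⟩ := hb
    exact ⟨a, b' • x, by rw [smul_smul, Algebra.algebraMap_eq_smul_one]⟩
  · rintro ⟨a, s, rfl⟩
    obtain ⟨a', b', rfl⟩ := h.span s
    have hX : (PowerSeries.X : PowerSeries k) ^ n • x ∈ S := by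
      rw [← hJ, hn, Ideal.mem_span_singleton]
    refine S.add_mem (S.smul_mem S.one_mem _) ?_
    rw [smul_add]
    refine S.add_mem (S.smul_mem (S.algebraMap_mem _) _) ?_
    rw [smul_comm]
    exact S.smul_mem hX _

/-- the discriminant of `R + t^n A`. -/
theorem Quad.main (h : Quad (PowerSeries k) A x c) (h2 : (2 : k) ≠ 0) (e : ℕ)
    (hc : Associated c ((PowerSeries.X : PowerSeries k) ^ e)) (b : ℕ)
    (S : Subalgebra (PowerSeries k) A) :
    (∃ bS : Module.Basis (Fin 2) (PowerSeries k) S,
      Ideal.span {Algebra.discr (PowerSeries k) ⇑bS} =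
        Ideal.span {(PowerSeries.X : PowerSeries k) ^ b}) ↔
    ∃ n : ℕ, b = 2 * n + e ∧
      Subalgebra.toSubmodule S = Submodule.span (PowerSeries k) {(1 : A)} ⊔
        Ideal.span {(PowerSeries.X : PowerSeries k) ^ n} • (⊤ : Submodule (PowerSeries k) A) := by
  have h4 : IsUnit (4 : PowerSeries k) := by
    have : (4 : PowerSeries k) = PowerSeries.C (4 : k) := by
      rw [map_ofNat]
    rw [this]
    refine IsUnit.map _ (isUnit_iff_ne_zero.mpr ?_)
    have : (4 : k) = 2 * 2 := by norm_num
    rw [this]
    exact mul_ne_zero h2 h2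
  have key : ∀ n : ℕ, Subalgebra.toSubmodule S = Submodule.span (PowerSeries k) {(1 : A)} ⊔
        Ideal.span {(PowerSeries.X : PowerSeries k) ^ n} • (⊤ : Submodule (PowerSeries k) A) →
      ∃ bS : Module.Basis (Fin 2) (PowerSeries k) S, Associated (Algebra.discr (PowerSeries k) ⇑bS)
        ((PowerSeries.X : PowerSeries k) ^ (2 * n + e)) := by
    intro n hn
    obtain ⟨x', hx'⟩ := h.sub S _ (pow_ne_zero n PowerSeries.X_ne_zero) hn
    refine ⟨hx'.basis, ?_⟩
    rw [hx'.discr, pow_add, ← pow_mul, mul_comm n 2]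
    exact (associated_unit_mul_left _ _ h4).trans ((Associated.refl _).mul_mul hc)
  constructor
  · rintro ⟨bS, hbS⟩
    obtain ⟨n, hn⟩ := h.exists_eq S bS
    refine ⟨n, ?_, hn⟩
    obtain ⟨bS', hbS'⟩ := key n hn
    rw [Ideal.span_singleton_eq_span_singleton] at hbS
    exact K804.Disc.X_pow_associated
      (hbS.symm.trans ((K804.Disc.discr_basis_assoc bS bS').trans hbS'))
  · rintro ⟨n, rfl, hn⟩
    obtain ⟨bS', hbS'⟩ := key n hn
    exact ⟨bS', Ideal.span_singleton_eq_span_singleton.mpr hbS'⟩

end PS

end K804.QuadAlg
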