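import Groth.Prelude.Def_W4c1hurwitzcptBd
import Mathlib.RingTheory.PowerSeries.Order
import Mathlib.RingTheory.PowerSeries.Inverse
import Mathlib.RingTheory.PowerSeries.NoZeroDivisors
import Mathlib.LinearAlgebra.Matrix.ToLin
import Mathlib.LinearAlgebra.Matrix.ToLinearEquiv
import Mathlib.RingTheory.Nakayama
import Mathlib.Tactic

set_option autoImplicit false
universe u v w

namespace K804.Root

open W4c1hurwitzcpt Module

section Submod

variable {R : Type u} [CommRing R] {A : Type v} [AddCommGroup A] [Module R A]
  {ι : Type w} [Fintype ι] [DecidableEq ι]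

theorem toMatrix_mulVec (bt : Basis ι R A) {S : Submodule R A} (bS : Basis ι R S) (v : ι → R) :
    (LinearMap.toMatrix bS bt S.subtype).mulVec v =
      bt.equivFun (S.subtype (bS.equivFun.symm v)) := by
  have h := LinearMap.toMatrix_mulVec_repr bS bt S.subtype (bS.equivFun.symm v)
  have h2 : (⇑(bS.repr (bS.equivFun.symm v)) : ι → R) = v := bS.equivFun.apply_symm_apply v
  rw [h2] at h
  exact h

/-- a submodule of full rank contains a nonzero multiple of the whole module. -/
theorem exists_smul_mem [IsDomain R] (bt : Basis ι R A) {S : Submodule R A} (bS : Basis ι R S) :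
    ∃ r : R, r ≠ 0 ∧ ∀ y : A, r • y ∈ S := by
  refine ⟨(LinearMap.toMatrix bS bt S.subtype).det, ?_, ?_⟩
  · intro h
    obtain ⟨v, hv, hv'⟩ := Matrix.exists_mulVec_eq_zero_iff.mpr h
    apply hv
    rw [toMatrix_mulVec] at hv'
    have h2 : S.subtype (bS.equivFun.symm v) = 0 := by
      apply bt.equivFun.injective
      rw [hv', map_zero]
    have h3 : bS.equivFun.symm v = 0 := by
      apply Subtype.ext
      simpa using h2
    exact (LinearEquiv.map_eq_zero_iff _).mp h3
  · intro y
    have h2 := toMatrix_mulVec bt bS
      ((LinearMap.toMatrix bS bt S.subtype).adjugate.mulVec (bt.equivFun y))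
    rw [Matrix.mulVec_mulVec, Matrix.mul_adjugate, Matrix.smul_mulVec, Matrix.one_mulVec,
      ← map_smul] at h2
    have h3 := bt.equivFun.injective h2
    rw [h3]
    exact Subtype.property _

end Submod

variable {k : Type u} [Field k] {p : ℕ} [NeZero p]

theorem val_smul (r : PowerSeries k) (f : RootDisk p k) :
    RootDisk.val (r • f) = PowerSeries.expand p (NeZero.ne p) r * RootDisk.val f := by
  rw [Algebra.smul_def, map_mul]
  rfl

theorem order_smul (r : PowerSeries k) (f : RootDisk p k) :
    (RootDisk.val (r • f)).order = p • r.order + (RootDisk.val f).order := by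
  rw [val_smul, PowerSeries.order_mul, PowerSeries.order_expand]

theorem val_X_smul (f : RootDisk p k) :
    RootDisk.val ((PowerSeries.X : PowerSeries k) • f) = PowerSeries.X ^ p * RootDisk.val f := by
  rw [val_smul, PowerSeries.expand_X]

/-- the parameter `x`. -/
noncomputable def xx (p : ℕ) (k : Type u) [Field k] : RootDisk p k := RootDisk.val.symm PowerSeries.X

omit [NeZero p] in
theorem val_xx : RootDisk.val (xx p k) = PowerSeries.X := RingEquiv.apply_symm_apply _ _

/-- `∑ r_j x^j`. -/
noncomputable def comb (p : ℕ) [NeZero p] (k : Type u) [Field k] :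
    (Fin p → PowerSeries k) →ₗ[PowerSeries k] RootDisk p k :=
  Fintype.linearCombination (PowerSeries k) (fun j : Fin p => (xx p k) ^ (j : ℕ))

theorem comb_apply (r : Fin p → PowerSeries k) : comb p k r = ∑ j, r j • (xx p k) ^ (j : ℕ) := rfl

theorem coeff_comb (r : Fin p → PowerSeries k) (i : ℕ) (j : Fin p) :
    PowerSeries.coeff (p * i + j) (RootDisk.val (comb p k r)) = PowerSeries.coeff i (r j) := by
  rw [comb_apply, map_sum, map_sum]
  rw [Finset.sum_eq_single j]
  · rw [val_smul, map_pow, val_xx, PowerSeries.coeff_mul_X_pow, PowerSeries.coeff_expand_mul]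
  · intro j' _ hj'
    rw [val_smul, map_pow, val_xx, PowerSeries.coeff_mul_X_pow']
    split_ifs with h
    · apply PowerSeries.coeff_expand_of_not_dvd
      intro hd
      apply hj'
      have h1 : ((p * i + j : ℕ) - (j' : ℕ) : ℕ) ≡ 0 [MOD p] := (Nat.modEq_zero_iff_dvd).mpr hd
      have h2 : (j' : ℕ) ≡ p * i + j [MOD p] := (Nat.modEq_iff_dvd' h).mpr hd
      have h3 : p * i + (j : ℕ) ≡ j [MOD p] := by
        simp [Nat.ModEq]
      have h4 := h2.trans h3
      rw [Nat.ModEq, Nat.mod_eq_of_lt j'.2, Nat.mod_eq_of_lt j.2] at h4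
      exact Fin.ext h4
    · rfl
  · intro h; exact absurd (Finset.mem_univ _) h

theorem comb_bijective : Function.Bijective (comb p k) := by
  have hp : 0 < p := Nat.pos_of_ne_zero (NeZero.ne p)
  constructor
  · rw [injective_iff_map_eq_zero]
    intro r hr
    funext j
    ext i
    rw [← coeff_comb, hr]
    simp
  · intro f
    refine ⟨fun j => PowerSeries.mk fun i => PowerSeries.coeff (p * i + j) (RootDisk.val f), ?_⟩
    apply RootDisk.val.injective
    ext n
    have h := coeff_comb (k := k) (fun j : Fin p => PowerSeries.mk fun i =>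
      PowerSeries.coeff (p * i + j) (RootDisk.val f)) (n / p) ⟨n % p, Nat.mod_lt _ hp⟩
    simp only [PowerSeries.coeff_mk, Nat.div_add_mod] at h
    exact h

/-- the basis `1, x, ..., x^(p-1)`. -/
noncomputable def bas (p : ℕ) [NeZero p] (k : Type u) [Field k] :
    Basis (Fin p) (PowerSeries k) (RootDisk p k) :=
  Basis.ofEquivFun (LinearEquiv.ofBijective (comb p k) comb_bijective).symm

theorem coeff_order_ne_zero' {f : PowerSeries k} {n : ℕ} (h : f.order = n) :
    PowerSeries.coeff n f ≠ 0 := by
  have := PowerSeries.order_eq_nat.mp h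
  exact this.1

/-- a finitely generated submodule of `k⟦x⟧` (over `k⟦x^p⟧`) containing all elements of large
valuation is generated by `p` elements whose valuations are `0, ..., p-1` mod `p`. -/
theorem exists_gens (M : Submodule (PowerSeries k) (RootDisk p k)) (hfg : M.FG) (N : ℕ)
    (hN : ∀ f : RootDisk p k, (N : ℕ∞) ≤ (RootDisk.val f).order → f ∈ M) :
    ∃ g : Fin p → RootDisk p k, (∀ j, g j ∈ M) ∧
      (∀ j, ∃ m : ℕ, (RootDisk.val (g j)).order = ((p * m + j : ℕ) : ℕ∞)) ∧
      Submodule.span (PowerSeries k) (Set.range g) = M := by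
  classical
  have hp : 0 < p := Nat.pos_of_ne_zero (NeZero.ne p)
  have hex : ∀ j : Fin p, ∃ m : ℕ, ∃ f ∈ M, (RootDisk.val f).order = ((p * m + j : ℕ) : ℕ∞) := by
    intro j
    refine ⟨N, (xx p k) ^ (p * N + j : ℕ), hN _ ?_, ?_⟩
    · rw [map_pow, val_xx, PowerSeries.order_X_pow]
      norm_cast
      nlinarith [Nat.zero_le (j : ℕ)]
    · rw [map_pow, val_xx, PowerSeries.order_X_pow]
  choose g hgM hg using fun j => Nat.find_spec (hex j)
  have hmin : ∀ (j : Fin p) (f : RootDisk p k) (m : ℕ), f ∈ M →
      (RootDisk.val f).order = ((p * m + j : ℕ) : ℕ∞) → Nat.find (hex j) ≤ m := by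
    intro j f m hf hfo
    exact Nat.find_min' (hex j) ⟨f, hf, hfo⟩
  refine ⟨g, hgM, fun j => ⟨_, hg j⟩, ?_⟩
  -- successive approximation
  have happ : ∀ (L : ℕ) (f : RootDisk p k), f ∈ M → ∃ f' ∈ M, (L : ℕ∞) ≤ (RootDisk.val f').order ∧
      f - f' ∈ Submodule.span (PowerSeries k) (Set.range g) := by
    intro L
    induction L with
    | zero => intro f hf; exact ⟨f, hf, by simp, by simp⟩
    | succ L ih =>
      intro f hf
      obtain ⟨f', hf', hL, hsp⟩ := ih f hf
      by_cases h : ((L + 1 : ℕ) : ℕ∞) ≤ (RootDisk.val f').order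
      · exact ⟨f', hf', h, hsp⟩
      · have hord : (RootDisk.val f').order = (L : ℕ∞) := by
          refine le_antisymm ?_ hL
          rw [not_le] at h
          exact Order.le_of_lt_add_one (by exact_mod_cast h)
        set j : Fin p := ⟨L % p, Nat.mod_lt _ hp⟩ with hj
        have hLj : p * (L / p) + (j : ℕ) = L := Nat.div_add_mod L p
        have hm := hmin j f' (L / p) hf' (by rw [hLj]; exact hord)
        set m := Nat.find (hex j) with hmdef
        have hgj : (RootDisk.val (g j)).order = ((p * m + j : ℕ) : ℕ∞) := hg j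
        have hcg := coeff_order_ne_zero' hgj
        set c : k := PowerSeries.coeff L (RootDisk.val f') *
          (PowerSeries.coeff (p * m + j) (RootDisk.val (g j)))⁻¹ with hc
        have hval : RootDisk.val (((PowerSeries.C c) * (PowerSeries.X : PowerSeries k) ^ (L / p - m)) • g j) =
            PowerSeries.C c * (PowerSeries.X ^ (p * (L / p - m)) * RootDisk.val (g j)) := by
          rw [val_smul, map_mul, map_pow, PowerSeries.expand_X, PowerSeries.expand_C, ← pow_mul,
            mul_assoc]
        refine ⟨f' - ((PowerSeries.C c) * (PowerSeries.X : PowerSeries k) ^ (L / p - m)) • g j,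
          M.sub_mem hf' (M.smul_mem _ (hgM j)), ?_, ?_⟩
        · apply PowerSeries.nat_le_order
          intro i hi
          rw [map_sub, map_sub, hval, PowerSeries.coeff_C_mul, PowerSeries.coeff_X_pow_mul']
          have hsub : p * (L / p - m) + (p * m + j) = L := by
            rw [← add_assoc, ← mul_add, Nat.sub_add_cancel hm, hLj]
          rcases Nat.lt_succ_iff_lt_or_eq.mp hi with hlt | heq
          · have h1 : PowerSeries.coeff i (RootDisk.val f') = 0 := by
              apply PowerSeries.coeff_of_lt_order
              rw [hord]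
              exact_mod_cast hlt
            rw [h1]
            split_ifs with h2
            · have h3 : PowerSeries.coeff (i - p * (L / p - m)) (RootDisk.val (g j)) = 0 := by
                apply PowerSeries.coeff_of_lt_order
                rw [hgj]
                norm_cast
                omega
              rw [h3]
              simp
            · simp
          · rw [heq, if_pos (by omega)]
            have h4 : L - p * (L / p - m) = p * m + j := by omega
            rw [h4, hc, mul_assoc, inv_mul_cancel₀ hcg, mul_one, sub_self]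
        · have h5 : f - (f' - ((PowerSeries.C c) * (PowerSeries.X : PowerSeries k) ^ (L / p - m)) • g j) =
              (f - f') + ((PowerSeries.C c) * (PowerSeries.X : PowerSeries k) ^ (L / p - m)) • g j := by
            abel
          rw [h5]
          exact Submodule.add_mem _ hsp (Submodule.smul_mem _ _ (Submodule.subset_span ⟨j, rfl⟩))
  apply le_antisymm
  · rw [Submodule.span_le]
    rintro _ ⟨j, rfl⟩
    exact hgM j
  · refine Submodule.le_of_le_smul_of_le_jacobson_bot (I := Ideal.span {(PowerSeries.X : PowerSeries k)})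
      hfg ?_ ?_
    · rw [IsLocalRing.jacobson_eq_maximalIdeal _ bot_ne_top, PowerSeries.maximalIdeal_eq_span_X]
    · intro f hf
      obtain ⟨f', hf', hL, hsp⟩ := happ (N + p) f hf
      rw [Submodule.mem_sup]
      refine ⟨f - f', hsp, f', ?_, by abel⟩
      have hdvd : (PowerSeries.X : PowerSeries k) ^ p ∣ RootDisk.val f' := by
        rw [PowerSeries.X_pow_dvd_iff]
        intro m hm
        apply PowerSeries.coeff_of_lt_order
        refine lt_of_lt_of_le ?_ hL
        norm_cast
        omega
      obtain ⟨q, hq⟩ := hdvd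
      have hf'q : f' = (PowerSeries.X : PowerSeries k) • (RootDisk.val.symm q : RootDisk p k) := by
        apply RootDisk.val.injective
        rw [val_X_smul, RingEquiv.apply_symm_apply, hq]
      rw [hf'q]
      refine Submodule.smul_mem_smul (Ideal.mem_span_singleton_self _) (hN _ ?_)
      rw [RingEquiv.apply_symm_apply]
      rw [hq, PowerSeries.order_mul, PowerSeries.order_X_pow] at hL
      push_cast at hL
      rw [add_comm] at hL
      exact (ENat.add_le_add_iff_left (ENat.natCast_ne_top p)).mp hL

/-- a submodule containing a nonzero multiple of everything contains all elements of large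
valuation. -/
theorem exists_N (M : Submodule (PowerSeries k) (RootDisk p k)) (r : PowerSeries k) (hr : r ≠ 0)
    (h : ∀ y : RootDisk p k, r • y ∈ M) :
    ∃ N : ℕ, ∀ f : RootDisk p k, (N : ℕ∞) ≤ (RootDisk.val f).order → f ∈ M := by
  obtain ⟨n, w, hw⟩ := IsDiscreteValuationRing.associated_pow_irreducible hr PowerSeries.X_irreducible
  refine ⟨p * n, fun f hf => ?_⟩
  have hdvd : (PowerSeries.X : PowerSeries k) ^ (p * n) ∣ RootDisk.val f := by
    rw [PowerSeries.X_pow_dvd_iff]
    intro m hm
    apply PowerSeries.coeff_of_lt_order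
    exact lt_of_lt_of_le (by exact_mod_cast hm) hf
  obtain ⟨q, hq⟩ := hdvd
  have : f = r • ((w : PowerSeries k) • (RootDisk.val.symm q : RootDisk p k)) := by
    rw [smul_smul, hw]
    apply RootDisk.val.injective
    rw [val_smul, map_pow, PowerSeries.expand_X, ← pow_mul, hq, RingEquiv.apply_symm_apply]
  rw [this]
  exact h _

end K804.Root
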