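import Mathlib.RingTheory.PowerSeries.Basic
import Mathlib.RingTheory.PowerSeries.Inverse
import Mathlib.RingTheory.Ideal.Quotient.Defs
import Mathlib.LinearAlgebra.Quotient.Basic
import Mathlib.LinearAlgebra.Isomorphisms
import Mathlib.Tactic
import Groth.Agent.Crimp.K804.Span

set_option autoImplicit false
universe u v

namespace K804.Triple

variable {R : Type u} [CommRing R] {A : Type v} [CommRing A] [Algebra R A]

/-- `R² → R/(r) × R/(s)`. -/
noncomputable def red (r s : R) : (R × R) →ₗ[R] (R ⧸ Ideal.span {r}) × (R ⧸ Ideal.span {s}) :=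
  LinearMap.prodMap (Submodule.mkQ (Ideal.span {r})) (Submodule.mkQ (Ideal.span {s}))

theorem red_surjective (r s : R) : Function.Surjective (red r s) := by
  rintro ⟨x, y⟩
  obtain ⟨x, rfl⟩ := Submodule.mkQ_surjective _ x
  obtain ⟨y, rfl⟩ := Submodule.mkQ_surjective _ y
  exact ⟨(x, y), rfl⟩

theorem red_eq_zero_iff (r s : R) (x : R × R) : red r s x = 0 ↔ r ∣ x.1 ∧ s ∣ x.2 := by
  rw [red, LinearMap.prodMap_apply, Prod.mk_eq_zero, Submodule.mkQ_apply, Submodule.mkQ_apply,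
    Submodule.Quotient.mk_eq_zero, Submodule.Quotient.mk_eq_zero, Ideal.mem_span_singleton,
    Ideal.mem_span_singleton]

/-- If `ψ : A → R²` is a surjection with kernel `R·1` then the preimage of `(r) × (s)`, `r ∣ s`, is
`R·1 + R·r f + s A` where `ψ f = (1,0)`. -/
theorem ker_eq (ψ : A →ₗ[R] R × R) (hψ : Function.Surjective ψ)
    (hker : ∀ x, ψ x = 0 ↔ ∃ a : R, x = a • (1 : A)) (r s : R) (hrs : r ∣ s) (f : A)
    (hf : ψ f = (1, 0)) :
    LinearMap.ker (red r s ∘ₗ ψ) =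
      Submodule.span R {(1 : A), r • f} ⊔ Ideal.span {s} • (⊤ : Submodule R A) := by
  ext x
  rw [LinearMap.mem_ker, LinearMap.comp_apply, red_eq_zero_iff, K804.Span.mem_span_pair_sup]
  constructor
  · rintro ⟨⟨b, hb⟩, c, hc⟩
    obtain ⟨g, hg⟩ := hψ (0, 1)
    have h0 : ψ (x - (b * r) • f - (s * c) • g) = 0 := by
      rw [map_sub, map_sub, map_smul, map_smul, hf, hg]
      ext
      · simp [hb]; ring
      · simp [hc]
    obtain ⟨a, ha⟩ := (hker _).mp h0
    refine ⟨a, b, c • g, ?_⟩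
    rw [← ha, smul_smul, smul_smul]
    abel
  · rintro ⟨a, b, y, rfl⟩
    have h1 : ψ (1 : A) = 0 := (hker 1).mpr ⟨1, by simp⟩
    rw [map_add, map_add, map_smul, map_smul, map_smul, map_smul, h1, hf]
    obtain ⟨c, rfl⟩ := hrs
    constructor
    · simp only [smul_zero, zero_add, Prod.fst_add, Prod.smul_fst, smul_eq_mul, mul_one]
      exact ⟨b + c * (ψ y).1, by ring⟩
    · simp only [smul_zero, zero_add, Prod.snd_add, Prod.smul_snd, smul_eq_mul, mul_one]
      simp

/-- the standard `R³ → R²` with kernel `R·1`. -/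
def Q (R : Type u) [CommRing R] : (Fin 3 → R) →ₗ[R] R × R :=
  ((LinearMap.proj 0 : (Fin 3 → R) →ₗ[R] R) - LinearMap.proj 2).prod
    ((LinearMap.proj 1 : (Fin 3 → R) →ₗ[R] R) - LinearMap.proj 2)

theorem Q_apply (x : Fin 3 → R) : Q R x = (x 0 - x 2, x 1 - x 2) := rfl

theorem Q_surjective : Function.Surjective (Q R) := by
  rintro ⟨a, b⟩
  exact ⟨![a, b, 0], by simp [Q_apply]⟩

theorem Q_eq_zero_iff (x : Fin 3 → R) : Q R x = 0 ↔ ∃ a : R, x = a • (1 : Fin 3 → R) := by
  rw [Q_apply, Prod.mk_eq_zero, sub_eq_zero, sub_eq_zero]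
  constructor
  · rintro ⟨h0, h1⟩
    refine ⟨x 2, ?_⟩
    funext i
    fin_cases i
    · simpa using h0
    · simpa using h1
    · simp
  · rintro ⟨a, rfl⟩
    simp

/-- moving a unimodular vector of `R²` (with one unit coordinate) to `(1,0)`. -/
theorem exists_equiv (u v : R) (h : IsUnit u ∨ IsUnit v) :
    ∃ φ : (R × R) ≃ₗ[R] (R × R), φ (u, v) = (1, 0) := by
  rcases h with ⟨w, rfl⟩ | ⟨w, rfl⟩
  · refine ⟨LinearEquiv.ofLinearMap
      (((↑w⁻¹ : R) • LinearMap.fst R R R).prod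
        (LinearMap.snd R R R - (v * ↑w⁻¹ : R) • LinearMap.fst R R R))
      (((w : R) • LinearMap.fst R R R).prod (LinearMap.snd R R R + v • LinearMap.fst R R R))
      ?_ ?_, ?_⟩
    · ext <;> simp
    · ext <;> simp
    · simp [mul_assoc]
  · refine ⟨LinearEquiv.ofLinearMap
      (((↑w⁻¹ : R) • LinearMap.snd R R R).prod
        (LinearMap.fst R R R - (u * ↑w⁻¹ : R) • LinearMap.snd R R R))
      ((LinearMap.snd R R R + u • LinearMap.fst R R R).prod ((w : R) • LinearMap.fst R R R))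
      ?_ ?_, ?_⟩
    · ext <;> simp
    · ext <;> simp
    · simp [mul_assoc]

section PS

variable {k : Type u} [Field k]

theorem isUnit_or_dvd (x : PowerSeries k) : IsUnit x ∨ PowerSeries.X ∣ x := by
  by_cases h : PowerSeries.constantCoeff x = 0
  · exact Or.inr (PowerSeries.X_dvd_iff.mpr h)
  · exact Or.inl (PowerSeries.isUnit_iff_constantCoeff.mpr (isUnit_iff_ne_zero.mpr h))

/-- If `f ∉ R·1 + t R³` there is a surjection `ψ : R³ → R²` with kernel `R·1` and `ψ f = (1,0)`. -/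
theorem exists_psi (f : Fin 3 → PowerSeries k)
    (hf : f ∉ Submodule.span (PowerSeries k) {(1 : (Fin 3 → PowerSeries k))} ⊔
      Ideal.span {(PowerSeries.X : PowerSeries k)} •
        (⊤ : Submodule (PowerSeries k) (Fin 3 → PowerSeries k))) :
    ∃ ψ : (Fin 3 → PowerSeries k) →ₗ[PowerSeries k] PowerSeries k × PowerSeries k,
      Function.Surjective ψ ∧ (∀ x, ψ x = 0 ↔ ∃ a : PowerSeries k, x = a • (1 : Fin 3 → PowerSeries k))
        ∧ ψ f = (1, 0) := by
  have hu : IsUnit (f 0 - f 2) ∨ IsUnit (f 1 - f 2) := by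
    by_contra h
    push Not at h
    obtain ⟨a, ha⟩ := (isUnit_or_dvd (f 0 - f 2)).resolve_left h.1
    obtain ⟨b, hb⟩ := (isUnit_or_dvd (f 1 - f 2)).resolve_left h.2
    apply hf
    rw [K804.Span.mem_span_singleton_sup]
    refine ⟨f 2, ![a, b, 0], ?_⟩
    funext i
    fin_cases i
    · simp [← ha]
    · simp [← hb]
    · simp
  obtain ⟨φ, hφ⟩ := exists_equiv _ _ hu
  refine ⟨φ.toLinearMap ∘ₗ Q _, φ.surjective.comp Q_surjective, fun x => ?_, ?_⟩
  · rw [← Q_eq_zero_iff]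
    simp
  · simpa [Q_apply] using hφ

end PS

end K804.Triple
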